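import Groth.Agent.L23.GenConn.RingGood
import Groth.Agent.L27.Acyclic0.DiscreteBase
import Mathlib.AlgebraicGeometry.Noetherian

/-! # Over a dense open of a Noetherian base, strictly local maps of a morphism of finite type are universally
submersive with connected geometric fibres -/

universe u

open CategoryTheory CategoryTheory.Limits AlgebraicGeometry IsLocalRing TensorProduct

set_option autoImplicit false
set_option linter.style.haveILetI false
set_option linter.unusedSectionVars false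
set_option linter.unusedVariables false
set_option maxSynthPendingDepth 3
set_option maxHeartbeats 1000000
set_option synthInstance.maxHeartbeats 400000
set_option backward.isDefEq.respectTransparency.types false

noncomputable section

namespace Groth.L23.GenConn

open Groth.L27.Acyclic0
open Groth.L27.BigSets (ShConnected ShSubmersive)

/-- The conclusion of the ring theorem at an element `f`. -/
def Good (A B : Type u) [CommRing A] [CommRing B] [Algebra A B] (f : A) : Prop :=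
    ∀ (RS RX : Type u) [CommRing RS] [HenselianLocalRing RS] [IsSepClosed (ResidueField RS)] [CommRing RX]
      [HenselianLocalRing RX] [IsSepClosed (ResidueField RX)] [Algebra RS RX] [IsLocalHom (algebraMap RS RX)]
      [Algebra A RS] [Algebra (RS ⊗[A] B) RX] [IsScalarTower RS (RS ⊗[A] B) RX]
      [Algebra.WeaklyEtale (RS ⊗[A] B) RX], IsUnit (algebraMap A RS f) →
      SGA1.UnivSubmersive (Spec.map (CommRingCat.ofHom (algebraMap RS RX))) ∧
        ∀ (K : Type u) [Field K] [IsAlgClosed K] [Algebra RS K],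
          ConnectedSpace (PrimeSpectrum (RX ⊗[RS] K))

theorem good_of_dvd {A B : Type u} [CommRing A] [CommRing B] [Algebra A B] {f g : A} (hfg : f ∣ g) (h : Good A B f) :
    Good A B g := fun RS RX _ _ _ _ _ _ _ _ _ _ _ _ hu =>
  h RS RX (isUnit_of_dvd_unit (map_dvd (algebraMap A RS) hfg) hu)

open Groth.L07.FlatGeomReduced in
/-- The statement at a point lying over a chart with a good element. -/
theorem atPoint {X Y X₁ Y₁ : Scheme.{u}} (g : X ⟶ Y) (g₁ : X₁ ⟶ Y₁) (b' : X₁ ⟶ X) (b : Y₁ ⟶ Y)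
    (h : IsPullback b' g₁ g b) (x : X₁) (V : Y.Opens) (hV : IsAffineOpen V) (W : X.Opens) (hW : IsAffineOpen W)
    (e : W ≤ g ⁻¹ᵁ V) (hxW : b'.base x ∈ W) (hyV : g.base (b'.base x) ∈ V) (f : Γ(Y, V))
    (hgood : letI := (g.appLE V W e).hom.toAlgebra; Good Γ(Y, V) Γ(X, W) f)
    (hxf : b.base (g₁.base x) ∈ Y.basicOpen f)
    (RS : Type u) [CommRing RS] [IsLocalRing RS] [Algebra (Y₁.presheaf.stalk (g₁.base x)) RS]
    [IsLocalHom (algebraMap (Y₁.presheaf.stalk (g₁.base x)) RS)]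
    [hRS : Hensel.IsStrictHenselization (Y₁.presheaf.stalk (g₁.base x)) RS]
    (RX : Type u) [CommRing RX] [IsLocalRing RX] [Algebra (X₁.presheaf.stalk x) RX]
    [IsLocalHom (algebraMap (X₁.presheaf.stalk x) RX)] [hRX : Hensel.IsStrictHenselization (X₁.presheaf.stalk x) RX]
    (ψ : RS →+* RX) [IsLocalHom ψ]
    (hψ : ψ.comp (algebraMap (Y₁.presheaf.stalk (g₁.base x)) RS) =
      (algebraMap (X₁.presheaf.stalk x) RX).comp (g₁.stalkMap x).hom) :
    SGA1.UnivSubmersive (Spec.map (CommRingCat.ofHom ψ)) ∧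
      ∀ (Ω : Type u) [Field Ω] [IsAlgClosed Ω] (η : Spec (CommRingCat.of Ω) ⟶ Spec (CommRingCat.of RS)),
        ConnectedSpace ↥(pullback (Spec.map (CommRingCat.ofHom ψ)) η) := by
  haveI := hRS.henselian
  haveI := hRX.henselian
  haveI : IsSepClosed (ResidueField RS) := hRS.isSepClosure.sep_closed
  haveI : IsSepClosed (ResidueField RX) := hRX.isSepClosure.sep_closed
  have hb : b.base (g₁.base x) = g.base (b'.base x) := by
    rw [← Scheme.Hom.comp_apply, ← Scheme.Hom.comp_apply, h.w]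
  obtain ⟨V₁, hV₁, hyV₁, e₁⟩ := exists_isAffineOpen_mem_and_subset (X := Y₁) (x := g₁.base x) (U := b ⁻¹ᵁ V)
    (show b.base (g₁.base x) ∈ V from hb.symm ▸ hyV)
  replace e₁ : V₁ ≤ b ⁻¹ᵁ V := e₁
  obtain ⟨W₁, hW₁, hxW₁, eW⟩ := exists_isAffineOpen_mem_and_subset (X := X₁) (x := x)
    (U := g₁ ⁻¹ᵁ V₁ ⊓ b' ⁻¹ᵁ W) ⟨hyV₁, hxW⟩
  have eg : W₁ ≤ g₁ ⁻¹ᵁ V₁ := fun z hz => (eW hz).1
  have eb : W₁ ≤ b' ⁻¹ᵁ W := fun z hz => (eW hz).2
  let A := Γ(Y, V)
  let B := Γ(X, W)
  let A₁ := Γ(Y₁, V₁)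
  let D := Γ(X₁, W₁)
  letI : Algebra A B := (g.appLE V W e).hom.toAlgebra
  have halg : algebraMap Γ(Y, V) Γ(X, W) = (g.appLE V W e).hom := rfl
  letI : Algebra A A₁ := (b.appLE V V₁ e₁).hom.toAlgebra
  letI : Algebra A D := ((g₁.appLE V₁ W₁ eg).hom.comp (algebraMap A A₁)).toAlgebra
  have hsq : g.appLE V W e ≫ b'.appLE W W₁ eb = b.appLE V V₁ e₁ ≫ g₁.appLE V₁ W₁ eg := by
    apply Spec.map_injective
    rw [Spec.map_comp, Spec.map_comp, ← cancel_mono hV.fromSpec, Category.assoc, Category.assoc,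
      IsAffineOpen.SpecMap_appLE_fromSpec g hV hW e, IsAffineOpen.SpecMap_appLE_fromSpec b hV hV₁ e₁,
      IsAffineOpen.SpecMap_appLE_fromSpec_assoc b' hW hW₁ eb,
      IsAffineOpen.SpecMap_appLE_fromSpec_assoc g₁ hV₁ hW₁ eg, h.w]
  let θ : B ⊗[A] A₁ →ₐ[A] D := Algebra.TensorProduct.lift
    { (b'.appLE W W₁ eb).hom with
      commutes' := fun a => DFunLike.congr_fun (congrArg CommRingCat.Hom.hom hsq) a }
    { (g₁.appLE V₁ W₁ eg).hom with commutes' := fun a => rfl } (fun _ _ => Commute.all _ _)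
  -- the chart of the base change
  obtain ⟨c, hc, hc1, hc2⟩ := exists_chart g hV hW e halg A₁
  haveI := hc
  let k : Spec (CommRingCat.of A₁) ⟶ Y := Spec.map (CommRingCat.ofHom (algebraMap A A₁)) ≫ hV.fromSpec
  have hk : k = hV₁.fromSpec ≫ b := IsAffineOpen.SpecMap_appLE_fromSpec b hV hV₁ e₁
  let j : pullback g k ⟶ X₁ := h.lift (pullback.fst g k) (pullback.snd g k ≫ hV₁.fromSpec)
    (by rw [pullback.condition, hk, Category.assoc])
  haveI : IsOpenImmersion j := by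
    have hj : IsPullback j (pullback.snd g k) g₁ hV₁.fromSpec := by
      refine IsPullback.of_right ?_ (h.lift_snd _ _ _) h
      rw [h.lift_fst, ← hk]
      exact IsPullback.of_hasPullback g k
    exact MorphismProperty.of_isPullback (P := @IsOpenImmersion) hj.flip inferInstance
  have hm : Spec.map (CommRingCat.ofHom θ.toRingHom) ≫ c ≫ j = hW₁.fromSpec := by
    refine h.hom_ext ?_ ?_
    · rw [Category.assoc, Category.assoc, h.lift_fst, hc1, ← Spec.map_comp_assoc,
        ← IsAffineOpen.SpecMap_appLE_fromSpec b' hW hW₁ eb]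
      refine congrArg (fun q => Spec.map q ≫ hW.fromSpec) (CommRingCat.hom_ext (RingHom.ext fun z => ?_))
      show θ (z ⊗ₜ (1 : A₁)) = _
      rw [Algebra.TensorProduct.lift_tmul, map_one, mul_one]
      rfl
    · rw [Category.assoc, Category.assoc, h.lift_snd, reassoc_of% hc2, ← Spec.map_comp_assoc,
        ← IsAffineOpen.SpecMap_appLE_fromSpec g₁ hV₁ hW₁ eg]
      refine congrArg (fun q => Spec.map q ≫ hV₁.fromSpec) (CommRingCat.hom_ext (RingHom.ext fun z => ?_))
      show θ ((1 : B) ⊗ₜ z) = _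
      rw [Algebra.TensorProduct.lift_tmul, map_one, one_mul]
      rfl
  letI : Algebra (B ⊗[A] A₁) D := θ.toRingHom.toAlgebra
  haveI : Algebra.Etale (B ⊗[A] A₁) D := by
    haveI : IsOpenImmersion (Spec.map (CommRingCat.ofHom θ.toRingHom) ≫ c ≫ j) := hm.symm ▸ inferInstance
    haveI : IsOpenImmersion (Spec.map (CommRingCat.ofHom θ.toRingHom)) := IsOpenImmersion.of_comp _ (c ≫ j)
    exact RingHom.etale_algebraMap.mp ((HasRingHomProperty.Spec_iff (P := @AlgebraicGeometry.Etale)).mp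
      (inferInstance : AlgebraicGeometry.Etale (Spec.map (CommRingCat.ofHom θ.toRingHom))))
  letI : Algebra A₁ RS :=
    ((algebraMap (Y₁.presheaf.stalk (g₁.base x)) RS).comp (Y₁.presheaf.germ V₁ (g₁.base x) hyV₁).hom).toAlgebra
  haveI : Algebra.WeaklyEtale A₁ RS := weaklyEtale_strict hV₁ hyV₁ RS
  letI : Algebra A RS := ((algebraMap A₁ RS).comp (algebraMap A A₁)).toAlgebra
  haveI : IsScalarTower A A₁ RS := IsScalarTower.of_algebraMap_eq' rfl
  letI : Algebra D RX := ((algebraMap (X₁.presheaf.stalk x) RX).comp (X₁.presheaf.germ W₁ x hxW₁).hom).toAlgebra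
  haveI : Algebra.WeaklyEtale D RX := weaklyEtale_strict hW₁ hxW₁ RX
  letI : Algebra RS RX := ψ.toAlgebra
  haveI : IsLocalHom (algebraMap RS RX) := ‹IsLocalHom ψ›
  let σ : A₁ ⊗[A] B ≃ₐ[A] B ⊗[A] A₁ := Algebra.TensorProduct.comm A A₁ B
  letI : Algebra (A₁ ⊗[A] B) (B ⊗[A] A₁) := σ.toRingEquiv.toRingHom.toAlgebra
  haveI : Algebra.Etale (A₁ ⊗[A] B) (B ⊗[A] A₁) :=
    RingHom.etale_algebraMap.mp (RingHom.Etale.of_bijective σ.bijective)
  letI : Algebra (A₁ ⊗[A] B) D := ((algebraMap (B ⊗[A] A₁) D).comp (algebraMap (A₁ ⊗[A] B) (B ⊗[A] A₁))).toAlgebra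
  haveI : IsScalarTower (A₁ ⊗[A] B) (B ⊗[A] A₁) D := IsScalarTower.of_algebraMap_eq' rfl
  haveI : Algebra.Etale (A₁ ⊗[A] B) D := Algebra.Etale.comp (A₁ ⊗[A] B) (B ⊗[A] A₁) D
  letI : Algebra (A₁ ⊗[A] B) RX := ((algebraMap D RX).comp (algebraMap (A₁ ⊗[A] B) D)).toAlgebra
  haveI : IsScalarTower (A₁ ⊗[A] B) D RX := IsScalarTower.of_algebraMap_eq' rfl
  haveI : Algebra.WeaklyEtale (A₁ ⊗[A] B) RX := Algebra.WeaklyEtale.trans (A₁ ⊗[A] B) D RX
  have hcomp : ∀ a : A₁, algebraMap (A₁ ⊗[A] B) RX (a ⊗ₜ 1) = algebraMap RS RX (algebraMap A₁ RS a) := fun a => by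
    show algebraMap (X₁.presheaf.stalk x) RX (X₁.presheaf.germ W₁ x hxW₁ (θ ((1 : B) ⊗ₜ a))) =
      ψ (algebraMap (Y₁.presheaf.stalk (g₁.base x)) RS (Y₁.presheaf.germ V₁ (g₁.base x) hyV₁ a))
    rw [← RingHom.comp_apply ψ, hψ, Algebra.TensorProduct.lift_tmul, map_one, one_mul]
    refine congrArg (algebraMap (X₁.presheaf.stalk x) RX) ?_
    show ((g₁.appLE V₁ W₁ eg) ≫ X₁.presheaf.germ W₁ x hxW₁).hom a =
      ((Y₁.presheaf.germ V₁ (g₁.base x) hyV₁) ≫ g₁.stalkMap x).hom a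
    rw [Scheme.Hom.germ_stalkMap, Scheme.Hom.appLE, Category.assoc, X₁.presheaf.germ_res]
  obtain ⟨_, _, _⟩ := exists_weaklyEtale_strict RS RX A B A₁ hcomp
  have hfu : IsUnit (algebraMap A RS f) := by
    show IsUnit (algebraMap (Y₁.presheaf.stalk (g₁.base x)) RS
      (Y₁.presheaf.germ V₁ (g₁.base x) hyV₁ (b.appLE V V₁ e₁ f)))
    refine IsUnit.map _ ?_
    rw [← Scheme.mem_basicOpen Y₁ _ _ hyV₁, Scheme.basicOpen_appLE]
    exact ⟨hyV₁, hxf⟩
  obtain ⟨h1, h2⟩ := hgood RS RX hfu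
  refine ⟨h1, fun Ω _ _ η => ?_⟩
  letI : Algebra RS Ω := (Spec.preimage η).hom.toAlgebra
  haveI hconn : ConnectedSpace (PrimeSpectrum (RX ⊗[RS] Ω)) := h2 Ω
  have hη : η = Spec.map (CommRingCat.ofHom (algebraMap RS Ω)) := (Spec.map_preimage η).symm
  rw [hη]
  let i : pullback (Spec.map (CommRingCat.ofHom ψ)) (Spec.map (CommRingCat.ofHom (algebraMap RS Ω))) ≅
      Spec (CommRingCat.of (RX ⊗[RS] Ω)) := pullbackSpecIso RS RX Ω
  haveI : ConnectedSpace ↥(Spec (CommRingCat.of (RX ⊗[RS] Ω))) := hconn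
  exact i.inv.homeomorph.surjective.connectedSpace i.inv.continuous

/-- A good element of an irreducible affine open, serving a finite family of affine charts over it. -/
theorem exists_good_affine {X S : Scheme.{u}} (a : X ⟶ S) [IsLocallyNoetherian S] [LocallyOfFiniteType a]
    (V : S.Opens) (hV : IsAffineOpen V) (hirr : IsIrreducible (V : Set S))
    {ι : Type u} [Finite ι] (W : ι → X.Opens) (hW : ∀ i, IsAffineOpen (W i)) (e : ∀ i, W i ≤ a ⁻¹ᵁ V) :
    ∃ f : Γ(S, V), (S.basicOpen f : Set S).Nonempty ∧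
      ∀ i, (letI := (a.appLE V (W i) (e i)).hom.toAlgebra; Good Γ(S, V) Γ(X, W i) f) := by
  classical
  haveI := Fintype.ofFinite ι
  haveI : IsNoetherianRing Γ(S, V) := IsLocallyNoetherian.component_noetherian ⟨V, hV⟩
  haveI : IrreducibleSpace (PrimeSpectrum Γ(S, V)) := by
    haveI : IrreducibleSpace ↥(V : Scheme.{u}) := Subtype.irreducibleSpace hirr
    exact hV.isoSpec.hom.homeomorph.surjective.irreducibleSpace hV.isoSpec.hom.continuous
  haveI hp : (nilradical Γ(S, V)).IsPrime := PrimeSpectrum.irreducibleSpace_iff_isPrime_nilradical.1 inferInstance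
  have hex : ∀ i, ∃ f : Γ(S, V), f ∉ nilradical Γ(S, V) ∧
      (letI := (a.appLE V (W i) (e i)).hom.toAlgebra; Good Γ(S, V) Γ(X, W i) f) := fun i => by
    letI := (a.appLE V (W i) (e i)).hom.toAlgebra
    haveI : Algebra.FiniteType Γ(S, V) Γ(X, W i) :=
      RingHom.finiteType_algebraMap.mp (LocallyOfFiniteType.finiteType_appLE a hV (hW i) (e i))
    exact exists_good Γ(S, V) Γ(X, W i)
  choose f hf hgood using hex
  refine ⟨∏ i, f i, ?_, fun i => ?_⟩
  · have hne : ∏ i, f i ∉ nilradical Γ(S, V) := fun h => by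
      obtain ⟨i, -, hi⟩ := hp.prod_mem_iff.1 h
      exact hf i hi
    rw [← IsAffineOpen.fromSpec_image_basicOpen hV]
    refine Set.Nonempty.image _ ?_
    obtain ⟨p, hp'⟩ : ∃ p : PrimeSpectrum Γ(S, V), ∏ i, f i ∉ p.asIdeal := ⟨⟨_, hp⟩, hne⟩
    exact ⟨p, hp'⟩
  · letI := (a.appLE V (W i) (e i)).hom.toAlgebra
    exact good_of_dvd (Finset.dvd_prod_of_mem f (Finset.mem_univ i)) (hgood i)

/-- Over a dense open of a Noetherian base, the maps of strictly local schemes of every base change of a morphism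
of finite type are universally submersive with connected geometric fibres. -/
theorem exists_dense_open_shConnected {X S : Scheme.{u}} (a : X ⟶ S) [IsNoetherian S] [LocallyOfFiniteType a]
    [QuasiCompact a] :
    ∃ U : S.Opens, Dense (U : Set S) ∧ ∀ ⦃X₁ S₁ : Scheme.{u}⦄ (b : S₁ ⟶ S), Set.range b.base ⊆ (U : Set S) →
      ∀ (g₁ : X₁ ⟶ S₁) (b' : X₁ ⟶ X), IsPullback b' g₁ a b → ShSubmersive g₁ ∧ ShConnected g₁ := by
  classical
  let I := {Z : Set S // Z ∈ irreducibleComponents S}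
  have hfin : (irreducibleComponents (S : Type u)).Finite := TopologicalSpace.NoetherianSpace.finite_irreducibleComponents
  have key : ∀ Z : I, ∃ U : S.Opens, ((U : Set S) ∩ Z.1).Nonempty ∧
      ∀ ⦃X₁ S₁ : Scheme.{u}⦄ (b : S₁ ⟶ S) (g₁ : X₁ ⟶ S₁) (b' : X₁ ⟶ X), IsPullback b' g₁ a b →
      ∀ x : X₁, b.base (g₁.base x) ∈ U →
      ∀ (RS : Type u) [CommRing RS] [IsLocalRing RS] [Algebra (S₁.presheaf.stalk (g₁.base x)) RS]
        [IsLocalHom (algebraMap (S₁.presheaf.stalk (g₁.base x)) RS)]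
        [Hensel.IsStrictHenselization (S₁.presheaf.stalk (g₁.base x)) RS]
        (RX : Type u) [CommRing RX] [IsLocalRing RX] [Algebra (X₁.presheaf.stalk x) RX]
        [IsLocalHom (algebraMap (X₁.presheaf.stalk x) RX)] [Hensel.IsStrictHenselization (X₁.presheaf.stalk x) RX]
        (ψ : RS →+* RX) [IsLocalHom ψ],
        ψ.comp (algebraMap (S₁.presheaf.stalk (g₁.base x)) RS) =
          (algebraMap (X₁.presheaf.stalk x) RX).comp (g₁.stalkMap x).hom →
        SGA1.UnivSubmersive (Spec.map (CommRingCat.ofHom ψ)) ∧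
          ∀ (Ω : Type u) [Field Ω] [IsAlgClosed Ω] (η : Spec (CommRingCat.of Ω) ⟶ Spec (CommRingCat.of RS)),
            ConnectedSpace ↥(pullback (Spec.map (CommRingCat.ofHom ψ)) η) := fun ⟨Z, hZ⟩ => by
    let T : Set S := ⋃ Z' ∈ irreducibleComponents (S : Type u) \ {Z}, Z'
    have hT : IsClosed T := (hfin.subset Set.diff_subset).isClosed_biUnion
      fun Z' hZ' => isClosed_of_mem_irreducibleComponents Z' hZ'.1
    have hO : Tᶜ ⊆ Z := fun s hs => by
      by_contra hsZ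
      exact hs (Set.mem_biUnion ⟨irreducibleComponent_mem_irreducibleComponents s,
        fun he : irreducibleComponent s = Z => hsZ (he ▸ mem_irreducibleComponent)⟩ mem_irreducibleComponent)
    obtain ⟨s, hsZ, hsT⟩ : ∃ s ∈ Z, s ∉ T := by
      by_contra hn
      push Not at hn
      obtain ⟨z, hz, hz'⟩ := isIrreducible_iff_sUnion_isClosed.1 hZ.1
        (hfin.subset Set.diff_subset).toFinset (fun z hz => isClosed_of_mem_irreducibleComponents z
          ((Set.Finite.mem_toFinset _).1 hz).1)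
        (fun s hs => by rw [Set.Finite.coe_toFinset, Set.sUnion_eq_biUnion]; exact hn s hs)
      obtain ⟨hz1, hz2⟩ := (Set.Finite.mem_toFinset _).1 hz
      exact hz2 (le_antisymm (hZ.2 hz1.1 hz') hz')
    obtain ⟨V, hV, hsV, hVT⟩ := exists_isAffineOpen_mem_and_subset (X := S) (x := s) (U := ⟨Tᶜ, hT.isOpen_compl⟩) hsT
    have hVZ : (V : Set S) ⊆ Z := fun v hv => hO (hVT hv)
    have hVirr : IsIrreducible (V : Set S) :=
      ⟨⟨s, hsV⟩, hZ.1.2.open_subset V.2 hVZ⟩
    have hcov : ∀ x : (a ⁻¹ᵁ V : Set X), ∃ W : X.affineOpens, x.1 ∈ W.1 ∧ W.1 ≤ a ⁻¹ᵁ V := fun x => by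
      obtain ⟨W, hW, hxW, hWV⟩ := exists_isAffineOpen_mem_and_subset (X := X) (x := x.1) (U := a ⁻¹ᵁ V) x.2
      exact ⟨⟨W, hW⟩, hxW, hWV⟩
    choose W hxW hWV using hcov
    obtain ⟨t, ht⟩ := (a.isCompact_preimage hV.isCompact).elim_finite_subcover (fun x => ((W x).1 : Set X))
      (fun x => (W x).1.2) (fun x hx => Set.mem_iUnion.mpr ⟨⟨x, hx⟩, hxW ⟨x, hx⟩⟩)
    obtain ⟨f, hf, hgood⟩ := exists_good_affine a V hV hVirr (fun i : t => (W i.1).1) (fun i => (W i.1).2)
      (fun i => hWV i.1)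
    obtain ⟨w, hw⟩ := hf
    refine ⟨S.basicOpen f, ⟨w, hw, hVZ (S.basicOpen_le f hw)⟩, fun X₁ S₁ b g₁ b' hsq x hx RS _ _ _ _ _ RX _ _ _ _ _ ψ _ hψ => ?_⟩
    have hy : a.base (b'.base x) ∈ V := by
      rw [← Scheme.Hom.comp_apply, hsq.w, Scheme.Hom.comp_apply]
      exact S.basicOpen_le f hx
    obtain ⟨i, hi, hxi⟩ := Set.mem_iUnion₂.1 (ht (show b'.base x ∈ (a ⁻¹ᵁ V : Set X) from hy))
    exact atPoint a g₁ b' b hsq x V hV (W i).1 (W i).2 _ hxi hy f (hgood ⟨i, hi⟩) hx RS RX ψ hψ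
  choose U hUne hU using key
  refine ⟨⨆ Z, U Z, ?_, fun X₁ S₁ b hb g₁ b' hsq => ?_⟩
  · rw [dense_iff_closure_eq, Set.eq_univ_iff_forall]
    intro s
    let Z : I := ⟨_, irreducibleComponent_mem_irreducibleComponents s⟩
    have h1 := subset_closure_inter_of_isPreirreducible_of_isOpen
      (isIrreducible_irreducibleComponent (x := s)).2 (U Z).2 (Set.inter_comm _ _ ▸ hUne Z) mem_irreducibleComponent
    exact closure_mono (fun z hz => TopologicalSpace.Opens.mem_iSup.2 ⟨Z, hz.2⟩) h1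
  · have hmem : ∀ x : X₁, ∃ Z, b.base (g₁.base x) ∈ U Z := fun x =>
      TopologicalSpace.Opens.mem_iSup.1 (hb (Set.mem_range_self _))
    refine ⟨fun x RS _ _ _ _ _ RX _ _ _ _ _ ψ _ hψ => ?_, fun x RS _ _ _ _ _ RX _ _ _ _ _ ψ _ hψ Ω _ _ η => ?_⟩
    all_goals obtain ⟨Z, hZ⟩ := hmem x
    · exact (hU Z b g₁ b' hsq x hZ RS RX ψ hψ).1
    · exact (hU Z b g₁ b' hsq x hZ RS RX ψ hψ).2 Ω η

end Groth.L23.GenConn

namespace Groth.L23.GenConn

/-- Connected geometric fibres over algebraically closed fields give connected geometric fibres over all field-valued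
points. -/
theorem connectedSpace_pullback_field {X Y : Scheme.{u}} (g : X ⟶ Y)
    (hc : ∀ (Ω : Type u) [Field Ω] [IsAlgClosed Ω] (η : Spec (CommRingCat.of Ω) ⟶ Y), ConnectedSpace ↥(pullback g η))
    (Ω : Type u) [Field Ω] (η : Spec (CommRingCat.of Ω) ⟶ Y) : ConnectedSpace ↥(pullback g η) := by
  let L := AlgebraicClosure Ω
  let σ : Spec (CommRingCat.of L) ⟶ Spec (CommRingCat.of Ω) := Spec.map (CommRingCat.ofHom (algebraMap Ω L))
  haveI : Surjective σ := ⟨fun x => ⟨closedPoint L, Subsingleton.elim _ _⟩⟩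
  let m : pullback g (σ ≫ η) ⟶ pullback g η :=
    pullback.lift (pullback.fst g (σ ≫ η)) (pullback.snd g (σ ≫ η) ≫ σ) (by rw [pullback.condition, Category.assoc])
  have cm : IsPullback m (pullback.snd g (σ ≫ η)) (pullback.snd g η) σ := by
    refine IsPullback.of_right ?_ (pullback.lift_snd _ _ _) (IsPullback.of_hasPullback g η)
    rw [pullback.lift_fst]
    exact IsPullback.of_hasPullback g (σ ≫ η)
  haveI : Surjective m := MorphismProperty.of_isPullback (P := @Surjective) cm.flip inferInstance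
  haveI := hc L (σ ≫ η)
  exact m.surjective.connectedSpace m.continuous

end Groth.L23.GenConn
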