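import Groth.Agent.L20.GenSmooth.Ring
import Groth.Agent.L27.Acyclic0.FieldBase
import Mathlib.RingTheory.Localization.BaseChange
import Mathlib.RingTheory.Ideal.GoingUp

/-! # A radicial model of a base with geometrically reduced generic fibre -/

universe u

open TensorProduct

set_option autoImplicit false
set_option linter.style.haveILetI false
set_option linter.unusedSectionVars false
set_option maxSynthPendingDepth 3
set_option maxHeartbeats 1000000
set_option synthInstance.maxHeartbeats 400000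
set_option backward.isDefEq.respectTransparency.types false

noncomputable section

namespace Groth.L23.GenConn

/-- Ring maps out of a tensor product are determined by their two restrictions. -/
theorem tensor_ringHom_ext {A P R F : Type*} [CommRing A] [CommRing P] [CommRing R] [CommRing F] [Algebra A P]
    [Algebra A R] {f g : P ⊗[A] R →+* F} (h₁ : ∀ p : P, f (p ⊗ₜ 1) = g (p ⊗ₜ 1))
    (h₂ : ∀ r : R, f (1 ⊗ₜ r) = g (1 ⊗ₜ r)) : f = g := by
  refine RingHom.ext fun z => ?_
  induction z using TensorProduct.induction_on with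
  | zero => simp
  | add x y hx hy => rw [map_add, map_add, hx, hy]
  | tmul p r =>
    rw [show p ⊗ₜ[A] r = (p ⊗ₜ 1) * ((1 : P) ⊗ₜ r) by
      rw [Algebra.TensorProduct.tmul_mul_tmul, mul_one, one_mul], map_mul, map_mul, h₁, h₂]

attribute [local instance] Algebra.TensorProduct.rightAlgebra in
/-- Localizations of reduced algebras are reduced. -/
theorem isReduced_localization_tensor {P : Type u} [CommRing P] (M : Submonoid P) (L C : Type u) [CommRing L]
    [Algebra P L] [IsLocalization M L] [CommRing C] [Algebra P C] [IsReduced C] : IsReduced (L ⊗[P] C) := by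
  haveI : IsLocalization (Algebra.algebraMapSubmonoid C M) (L ⊗[P] C) :=
    (Algebra.isLocalization_iff_isPushout M L).mpr inferInstance
  let e := IsLocalization.algEquiv (Algebra.algebraMapSubmonoid C M) (L ⊗[P] C)
    (Localization (Algebra.algebraMapSubmonoid C M))
  exact isReduced_of_injective e.toAlgHom e.injective

/-- The power law of the characteristic exponent in algebras over a ring mapping into a field. -/
theorem add_pow_of_injective {P k : Type u} [CommRing P] [Field k] [Algebra P k]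
    (hinj : Function.Injective (algebraMap P k)) (q : ℕ) [hq : ExpChar k q] (S : Type u) [CommRing S]
    [Algebra P S] (x y : S) (n : ℕ) : (x + y) ^ q ^ n = x ^ q ^ n + y ^ q ^ n := by
  cases hq with
  | zero => simp
  | prime hp =>
    rcases subsingleton_or_nontrivial S with h | h
    · exact Subsingleton.elim _ _
    · have h0 : (q : P) = 0 := hinj (by rw [map_natCast, map_zero, CharP.cast_eq_zero])
      have h1 : (q : S) = 0 := by rw [← map_natCast (algebraMap P S), h0, map_zero]
      haveI : CharP S q := (CharP.charP_iff_prime_eq_zero hp).2 h1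
      haveI : Fact q.Prime := ⟨hp⟩
      exact add_pow_char_pow x y q n

/-- Fibres of the reduced model over field-valued points at the generic point are reduced. -/
theorem isReduced_generic (A B P K k' κ : Type u) [CommRing A] [CommRing B] [Algebra A B] [CommRing P] [Algebra A P]
    [Field K] [Algebra A K] [Field k'] [Algebra K k'] [Algebra A k'] [IsScalarTower A K k'] [Algebra P k']
    [IsScalarTower A P k'] [IsFractionRing P k'] (I : Ideal (k' ⊗[K] (K ⊗[A] B)))
    (hI : I ≤ nilradical (k' ⊗[K] (K ⊗[A] B)))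
    [hQ : Algebra.IsGeometricallyReduced k' ((k' ⊗[K] (K ⊗[A] B)) ⧸ I)]
    [Field κ] [Algebra P κ] (hκ : Function.Injective (algebraMap P κ)) :
    IsReduced (((P ⊗[A] B) ⧸ nilradical (P ⊗[A] B)) ⊗[P] κ) := by
  let C := (P ⊗[A] B) ⧸ nilradical (P ⊗[A] B)
  haveI : IsReduced C := (Ideal.isRadical_iff_quotient_reduced _).1 (Ideal.radical_isRadical _)
  let Q := (k' ⊗[K] (K ⊗[A] B)) ⧸ I
  let φ : k' →+* κ := IsFractionRing.lift hκ
  have hφ : ∀ p : P, φ (algebraMap P k' p) = algebraMap P κ p := fun p => IsFractionRing.lift_algebraMap hκ p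
  letI : Algebra k' κ := φ.toAlgebra
  haveI : IsReduced Q :=
    haveI := Groth.L03.GeomReduced2.isReduced_of_isGeometricallyReduced (k := k') (S := Q) k'
    isReduced_of_injective (Algebra.TensorProduct.lid k' Q).symm.toAlgHom
      (Algebra.TensorProduct.lid k' Q).symm.injective
  haveI : IsReduced (Q ⊗[k'] κ) :=
    haveI := Groth.L03.GeomReduced2.isReduced_of_isGeometricallyReduced (k := k') (S := Q) κ
    isReduced_of_injective (Algebra.TensorProduct.comm k' Q κ).toAlgHom
      (Algebra.TensorProduct.comm k' Q κ).injective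
  haveI : IsReduced (k' ⊗[P] C) := isReduced_localization_tensor (nonZeroDivisors P) k' C
  let qI : k' ⊗[K] (K ⊗[A] B) →+* Q := Ideal.Quotient.mk I
  let bQ : B →+* Q := (qI.comp (Algebra.TensorProduct.includeRight :
    K ⊗[A] B →ₐ[K] k' ⊗[K] (K ⊗[A] B)).toRingHom).comp
    (Algebra.TensorProduct.includeRight : B →ₐ[A] K ⊗[A] B).toRingHom
  obtain ⟨u, hu₁, hu₂⟩ := Groth.L27.Acyclic0.exists_tensor_hom A P B Q
    ((algebraMap k' Q).comp (algebraMap P k')) bQ fun a => by
      rw [RingHom.comp_apply, ← IsScalarTower.algebraMap_apply A P k']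
      show algebraMap k' Q (algebraMap A k' a) = qI ((1 : k') ⊗ₜ[K] ((Algebra.TensorProduct.includeRight :
        B →ₐ[A] K ⊗[A] B) (algebraMap A B a)))
      rw [AlgHom.commutes, IsScalarTower.algebraMap_apply A K (K ⊗[A] B)]
      refine congrArg qI ?_
      rw [IsScalarTower.algebraMap_apply A K k']
      exact ((Algebra.TensorProduct.includeRight : K ⊗[A] B →ₐ[K] k' ⊗[K] (K ⊗[A] B)).commutes _).symm
  let ub : C →+* Q := Ideal.Quotient.lift _ u fun z hz => IsReduced.eq_zero _ ((mem_nilradical.1 hz).map u)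
  obtain ⟨Θ, hΘ₁, hΘ₂⟩ := Groth.L27.Acyclic0.exists_tensor_hom P C κ (Q ⊗[k'] κ)
    ((Algebra.TensorProduct.includeLeftRingHom : Q →+* Q ⊗[k'] κ).comp ub)
    (Algebra.TensorProduct.includeRight : κ →ₐ[k'] Q ⊗[k'] κ).toRingHom fun p => by
      show ub (algebraMap P C p) ⊗ₜ[k'] (1 : κ) = (1 : Q) ⊗ₜ[k'] algebraMap P κ p
      rw [← hφ, show ub (algebraMap P C p) = algebraMap k' Q (algebraMap P k' p) from hu₁ p]
      exact ((Algebra.TensorProduct.includeRight : κ →ₐ[k'] Q ⊗[k'] κ).commutes _).symm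
  let mkC : P ⊗[A] B →ₐ[P] C := Ideal.Quotient.mkₐ P (nilradical (P ⊗[A] B))
  let bC : B →+* k' ⊗[P] C := (Algebra.TensorProduct.includeRight : C →ₐ[P] k' ⊗[P] C).toRingHom.comp
    (mkC.toRingHom.comp (Algebra.TensorProduct.includeRight : B →ₐ[A] P ⊗[A] B).toRingHom)
  obtain ⟨v₀, hv₀₁, hv₀₂⟩ := Groth.L27.Acyclic0.exists_tensor_hom A K B (k' ⊗[P] C)
    ((Algebra.TensorProduct.includeLeftRingHom : k' →+* k' ⊗[P] C).comp (algebraMap K k')) bC fun a => by
      rw [RingHom.comp_apply, ← IsScalarTower.algebraMap_apply A K k']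
      show algebraMap A k' a ⊗ₜ[P] (1 : C) = (1 : k') ⊗ₜ[P]
        mkC ((Algebra.TensorProduct.includeRight : B →ₐ[A] P ⊗[A] B) (algebraMap A B a))
      rw [AlgHom.commutes, IsScalarTower.algebraMap_apply A P (P ⊗[A] B), mkC.commutes,
        IsScalarTower.algebraMap_apply A P k']
      exact ((Algebra.TensorProduct.includeRight : C →ₐ[P] k' ⊗[P] C).commutes _).symm
  obtain ⟨v, hv₁, hv₂⟩ := Groth.L27.Acyclic0.exists_tensor_hom K k' (K ⊗[A] B) (k' ⊗[P] C)
    (Algebra.TensorProduct.includeLeftRingHom : k' →+* k' ⊗[P] C) v₀ fun y => (hv₀₁ y).symm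
  let vb : Q →+* k' ⊗[P] C := Ideal.Quotient.lift I v fun z hz =>
    IsReduced.eq_zero _ ((mem_nilradical.1 (hI hz)).map v)
  obtain ⟨w, hw₁, hw₂⟩ := Groth.L27.Acyclic0.exists_tensor_hom P k' C (C ⊗[P] κ)
    ((Algebra.TensorProduct.includeRight : κ →ₐ[P] C ⊗[P] κ).toRingHom.comp φ)
    (Algebra.TensorProduct.includeLeftRingHom : C →+* C ⊗[P] κ) fun p => by
      show (1 : C) ⊗ₜ[P] φ (algebraMap P k' p) = algebraMap P C p ⊗ₜ[P] (1 : κ)
      rw [hφ]
      exact (Algebra.TensorProduct.includeRight : κ →ₐ[P] C ⊗[P] κ).commutes _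
  obtain ⟨Ξ, hΞ₁, hΞ₂⟩ := Groth.L27.Acyclic0.exists_tensor_hom k' Q κ (C ⊗[P] κ) (w.comp vb)
    (Algebra.TensorProduct.includeRight : κ →ₐ[P] C ⊗[P] κ).toRingHom fun y => by
      show w (v (y ⊗ₜ 1)) = (1 : C) ⊗ₜ[P] φ y
      rw [hv₁]
      exact hw₁ y
  have hid : Ξ.comp Θ = RingHom.id _ := by
    refine tensor_ringHom_ext (fun c => ?_) fun x => ?_
    · obtain ⟨z, rfl⟩ := Ideal.Quotient.mk_surjective c
      have key : ((w.comp vb).comp u) = ((Algebra.TensorProduct.includeLeftRingHom : C →+* C ⊗[P] κ).comp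
          mkC.toRingHom) := by
        refine tensor_ringHom_ext (fun p => ?_) fun b => ?_
        · show w (vb (u (p ⊗ₜ 1))) = mkC (algebraMap P _ p) ⊗ₜ 1
          rw [hu₁, mkC.commutes]
          show w (v (algebraMap P k' p ⊗ₜ 1)) = _
          rw [hv₁]
          refine (hw₁ _).trans ?_
          show (1 : C) ⊗ₜ[P] φ (algebraMap P k' p) = _
          rw [hφ]
          exact (Algebra.TensorProduct.includeRight : κ →ₐ[P] C ⊗[P] κ).commutes _
        · show w (vb (u (1 ⊗ₜ b))) = _
          rw [hu₂]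
          show w (v ((1 : k') ⊗ₜ[K] ((1 : K) ⊗ₜ[A] b))) = _
          rw [hv₂, hv₀₂]
          exact hw₂ _
      show Ξ (Θ (Ideal.Quotient.mk _ z ⊗ₜ 1)) = _
      rw [hΘ₁]
      show Ξ (ub (Ideal.Quotient.mk _ z) ⊗ₜ 1) = _
      rw [hΞ₁]
      exact DFunLike.congr_fun key z
    · show Ξ (Θ (1 ⊗ₜ x)) = _
      rw [hΘ₂]
      exact hΞ₂ x
  exact isReduced_of_injective Θ fun a b h => by
    have := congrArg Ξ h
    rwa [← RingHom.comp_apply, ← RingHom.comp_apply, hid] at this

variable (A B : Type u) [CommRing A] [IsNoetherianRing A] [CommRing B] [Algebra A B] [Algebra.FiniteType A B]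

/-- A radicial model of an irreducible base over which the reduced generic fibre is geometrically reduced. -/
structure Model where
  P : Type u
  [comm : CommRing P]
  [alg : Algebra A P]
  [dom : IsDomain P]
  [noeth : IsNoetherianRing P]
  q : ℕ
  hq : 0 < q
  hadd : ∀ (S : Type u) [CommRing S] [Algebra P S] (x y : S) (n : ℕ), (x + y) ^ q ^ n = x ^ q ^ n + y ^ q ^ n
  hP : ∀ x : P, ∃ (n : ℕ) (a : A), algebraMap A P a = x ^ q ^ n
  hker : RingHom.ker (algebraMap A P) = nilradical A
  hext : ∀ (F : Type u) [Field F] [IsAlgClosed F] (g : A →+* F), ∃ ι : P →+* F, ι.comp (algebraMap A P) = g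
  hgen : ∀ (κ : Type u) [Field κ] [Algebra P κ], Function.Injective (algebraMap P κ) →
    IsReduced (((P ⊗[A] B) ⧸ nilradical (P ⊗[A] B)) ⊗[P] κ)

attribute [instance] Model.comm Model.alg Model.dom Model.noeth

/-- Radicial models exist over bases with a single minimal prime. -/
theorem nonempty_model [hN : (nilradical A).IsPrime] : Nonempty (Model A B) := by
  classical
  let Ab := A ⧸ nilradical A
  let K := FractionRing Ab
  have hkerK : ∀ a : A, algebraMap A K a = 0 ↔ a ∈ nilradical A := fun a => by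
    rw [IsScalarTower.algebraMap_apply A Ab K, map_eq_zero_iff _ (IsFractionRing.injective Ab K)]
    exact Ideal.Quotient.eq_zero_iff_mem
  obtain ⟨k', _, _, hfin, hpi, I, hI, hQ⟩ := L20.GenSmooth.exists_purelyInseparable (k := K) (K ⊗[A] B)
  letI : Algebra A k' := ((algebraMap K k').comp (algebraMap A K)).toAlgebra
  haveI : IsScalarTower A K k' := IsScalarTower.of_algebraMap_eq' rfl
  let q := ringExpChar k'
  haveI : ExpChar k' q := inferInstance
  have hq : 0 < q := expChar_pos k' q
  haveI : ExpChar K q := (algebraMap K k').expChar (algebraMap K k').injective q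
  have hker' : ∀ a : A, algebraMap A k' a = 0 ↔ a ∈ nilradical A := fun a => by
    rw [IsScalarTower.algebraMap_apply A K k', map_eq_zero_iff _ (algebraMap K k').injective, hkerK]
  -- fractions
  have hfrac : ∀ y : K, ∃ a s : A, algebraMap A k' s ≠ 0 ∧
      algebraMap A k' s * algebraMap K k' y = algebraMap A k' a := fun y => by
    obtain ⟨a, s, hs, rfl⟩ := IsFractionRing.div_surjective (A := Ab) y
    obtain ⟨a, rfl⟩ := Ideal.Quotient.mk_surjective a
    obtain ⟨s, rfl⟩ := Ideal.Quotient.mk_surjective s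
    have hs0 : algebraMap A k' s ≠ 0 := fun h =>
      nonZeroDivisors.ne_zero hs (Ideal.Quotient.eq_zero_iff_mem.2 ((hker' s).1 h))
    refine ⟨a, s, hs0, ?_⟩
    show algebraMap A k' s * algebraMap K k' (algebraMap A K a / algebraMap A K s) = _
    rw [map_div₀, ← IsScalarTower.algebraMap_apply, ← IsScalarTower.algebraMap_apply, mul_div_cancel₀ _ hs0]
  have hscale : ∀ x : k', ∃ (s : A) (n : ℕ) (a : A), algebraMap A k' s ≠ 0 ∧
      (algebraMap A k' s * x) ^ q ^ n = algebraMap A k' a := fun x => by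
    obtain ⟨n, y, hy⟩ := IsPurelyInseparable.pow_mem K q x
    obtain ⟨a, s, hs, h⟩ := hfrac y
    refine ⟨s, n, s ^ (q ^ n - 1) * a, hs, ?_⟩
    rw [mul_pow, ← hy, map_mul, map_pow, ← h, ← mul_assoc, ← pow_succ,
      Nat.sub_add_cancel (Nat.one_le_pow _ _ hq)]
  obtain ⟨S, hS⟩ := hfin.fg_top
  choose σ ν α hσ hα using hscale
  let G : Set k' := (fun x => algebraMap A k' (σ x) * x) '' (S : Set k')
  let P := Algebra.adjoin A G
  have hrad : ∀ x ∈ P, ∃ (n : ℕ) (a : A), algebraMap A k' a = x ^ q ^ n := fun x hx => by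
    induction hx using Algebra.adjoin_induction with
    | mem y hy =>
      obtain ⟨b, -, rfl⟩ := hy
      exact ⟨ν b, α b, (hα b).symm⟩
    | algebraMap r => exact ⟨0, r, by simp⟩
    | add x y _ _ hx hy =>
      obtain ⟨n, a, ha⟩ := hx
      obtain ⟨m, b, hb⟩ := hy
      refine ⟨n + m, a ^ q ^ m + b ^ q ^ n, ?_⟩
      rw [map_add, map_pow, map_pow, ha, hb, add_pow_expChar_pow x y, pow_add q n m, pow_mul,
        mul_comm (q ^ n), pow_mul]
    | mul x y _ _ hx hy =>
      obtain ⟨n, a, ha⟩ := hx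
      obtain ⟨m, b, hb⟩ := hy
      refine ⟨n + m, a ^ q ^ m * b ^ q ^ n, ?_⟩
      rw [map_mul, map_pow, map_pow, ha, hb, mul_pow, ← pow_mul, ← pow_mul, pow_add, mul_comm (q ^ m) (q ^ n)]
  have hP : ∀ x : P, ∃ (n : ℕ) (a : A), algebraMap A P a = x ^ q ^ n := fun x => by
    obtain ⟨n, a, ha⟩ := hrad x.1 x.2
    exact ⟨n, a, Subtype.ext ha⟩
  haveI : Algebra.FiniteType A P :=
    (Subalgebra.fg_iff_finiteType P).1 (Subalgebra.fg_def.2 ⟨G, S.finite_toSet.image _, rfl⟩)
  haveI : IsNoetherianRing P := Algebra.FiniteType.isNoetherianRing A P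
  haveI : Algebra.IsIntegral A P := ⟨fun x => by
    obtain ⟨n, a, ha⟩ := hP x
    exact IsIntegral.of_pow (pow_pos hq n) (ha ▸ isIntegral_algebraMap)⟩
  have hkerP : RingHom.ker (algebraMap A P) = nilradical A := Ideal.ext fun a => by
    rw [RingHom.mem_ker, ← hker' a]
    exact ⟨fun h => congrArg Subtype.val h, fun h => Subtype.ext h⟩
  have hinjP : Function.Injective (algebraMap P k') := Subtype.val_injective
  haveI : FaithfulSMul P k' := (faithfulSMul_iff_algebraMap_injective P k').2 hinjP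
  have hden : ∀ y : k', ∃ a : A, algebraMap A k' a ≠ 0 ∧ algebraMap A k' a * y ∈ P := fun y => by
    have hy : y ∈ Submodule.span K (S : Set k') := hS ▸ Submodule.mem_top
    induction hy using Submodule.span_induction with
    | mem b hb => exact ⟨σ b, hσ b, Algebra.subset_adjoin ⟨b, hb, rfl⟩⟩
    | zero => exact ⟨1, by simp, by simp⟩
    | add x y _ _ hx hy =>
      obtain ⟨a, ha, ha'⟩ := hx
      obtain ⟨b, hb, hb'⟩ := hy
      refine ⟨a * b, by rw [map_mul]; exact mul_ne_zero ha hb, ?_⟩
      rw [map_mul, show algebraMap A k' a * algebraMap A k' b * (x + y) = algebraMap A k' b *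
        (algebraMap A k' a * x) + algebraMap A k' a * (algebraMap A k' b * y) by ring]
      exact add_mem (mul_mem (P.algebraMap_mem b) ha') (mul_mem (P.algebraMap_mem a) hb')
    | smul c x _ hx =>
      obtain ⟨a, ha, ha'⟩ := hx
      obtain ⟨u, t, ht, h⟩ := hfrac c
      refine ⟨t * a, by rw [map_mul]; exact mul_ne_zero ht ha, ?_⟩
      rw [map_mul, Algebra.smul_def, show algebraMap A k' t * algebraMap A k' a * (algebraMap K k' c * x) =
        (algebraMap A k' t * algebraMap K k' c) * (algebraMap A k' a * x) by ring, h]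
      exact mul_mem (P.algebraMap_mem u) ha'
  haveI : IsFractionRing P k' := IsFractionRing.of_field P k' fun y => by
    obtain ⟨a, ha, ha'⟩ := hden y
    refine ⟨⟨_, ha'⟩, algebraMap A P a, ?_⟩
    show y = (algebraMap A k' a * y) / algebraMap A k' a
    rw [mul_div_cancel_left₀ _ ha]
  refine ⟨{ P := P, q := q, hq := hq, hadd := fun S' _ _ => add_pow_of_injective hinjP q S', hP := hP,
            hker := hkerP, hext := ?_, hgen := ?_ }⟩
  · intro F _ _ g
    haveI : (RingHom.ker g).IsPrime := RingHom.ker_isPrime g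
    obtain ⟨Q, -, hQp, hQ⟩ := Ideal.exists_ideal_over_prime_of_isIntegral (RingHom.ker g) (⊥ : Ideal P) (by
      show RingHom.ker (algebraMap A P) ≤ _
      rw [hkerP]
      exact nilradical_le_prime _)
    haveI := hQp
    haveI : Q.LiesOver (RingHom.ker g) := ⟨hQ.symm⟩
    letI : Algebra (A ⧸ RingHom.ker g) F := (RingHom.kerLift g).toAlgebra
    haveI : FaithfulSMul (A ⧸ RingHom.ker g) F :=
      (faithfulSMul_iff_algebraMap_injective _ _).2 g.kerLift_injective
    haveI : Algebra.IsAlgebraic (A ⧸ RingHom.ker g) (P ⧸ Q) :=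
      Algebra.IsIntegral.isAlgebraic
    let ι : P ⧸ Q →ₐ[A ⧸ RingHom.ker g] F := IsAlgClosed.lift
    refine ⟨ι.toRingHom.comp (Ideal.Quotient.mk Q), RingHom.ext fun a => ?_⟩
    exact ι.commutes (Ideal.Quotient.mk (RingHom.ker g) a)
  · intro κ _ _ hκ
    haveI := hQ
    exact isReduced_generic A B P K k' κ I hI hκ

end Groth.L23.GenConn
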