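import Groth.Agent.L23.GenConn.Radicial
import Groth.Agent.L23.GenConn.RingModel
import Groth.Agent.L20.GenGeomRed
import Groth.Agent.L20.FlatLocusOpen
import Mathlib.AlgebraicGeometry.Pullbacks

/-! # Generic connectedness of strictly local fibres, ring form -/

universe u

open CategoryTheory CategoryTheory.Limits AlgebraicGeometry IsLocalRing TensorProduct

set_option autoImplicit false
set_option linter.style.haveILetI false
set_option linter.unusedSectionVars false
set_option maxSynthPendingDepth 3
set_option maxHeartbeats 1000000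
set_option synthInstance.maxHeartbeats 400000
set_option backward.isDefEq.respectTransparency.types false

noncomputable section

namespace Groth.L23.GenConn

/-- Reducedness of the fibre of an affine morphism over a field-valued point, read off any cartesian square. -/
theorem isReduced_iff_of_isPullback {P C κ : Type u} [CommRing P] [CommRing C] [Algebra P C] [Field κ] [Algebra P κ]
    {Z : Scheme.{u}} {fst : Z ⟶ Spec (CommRingCat.of C)} {snd : Z ⟶ Spec (CommRingCat.of κ)}
    (h : IsPullback fst snd (Spec.map (CommRingCat.ofHom (algebraMap P C)))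
      (Spec.map (CommRingCat.ofHom (algebraMap P κ)))) :
    AlgebraicGeometry.IsReduced Z ↔ _root_.IsReduced (C ⊗[P] κ) := by
  let e := h.isoPullback ≪≫ pullbackSpecIso P C κ
  constructor
  · intro hZ
    haveI := isReduced_of_isOpenImmersion e.inv
    exact (affine_isReduced_iff (CommRingCat.of (C ⊗[P] κ))).mp inferInstance
  · intro hr
    haveI : AlgebraicGeometry.IsReduced (Spec (CommRingCat.of (C ⊗[P] κ))) :=
      (affine_isReduced_iff _).mpr hr
    exact isReduced_of_isOpenImmersion e.hom

/-- Fibres are geometrically reduced over a nonempty open, in ring form. -/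
theorem exists_reduced_away (P C : Type u) [CommRing P] [IsDomain P] [IsNoetherianRing P] [CommRing C] [Algebra P C]
    [Algebra.FiniteType P C]
    (hgen : ∀ (κ : Type u) [Field κ] [Algebra P κ], Function.Injective (algebraMap P κ) →
      _root_.IsReduced (C ⊗[P] κ)) :
    ∃ r : P, r ≠ 0 ∧ ∀ (κ : Type u) [Field κ] [Algebra P κ], algebraMap P κ r ≠ 0 →
      _root_.IsReduced (C ⊗[P] κ) := by
  let g : Spec (CommRingCat.of C) ⟶ Spec (CommRingCat.of P) := Spec.map (CommRingCat.ofHom (algebraMap P C))
  haveI : LocallyOfFiniteType g := (HasRingHomProperty.Spec_iff (P := @LocallyOfFiniteType)).mpr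
    (RingHom.finiteType_algebraMap.mpr ‹_›)
  have hη : GeometricallyReduced (g.fiberToSpecResidueField (genericPoint (Spec (CommRingCat.of P)))) := by
    refine ⟨fun K _ y Z fst snd h => ?_⟩
    let η := genericPoint (Spec (CommRingCat.of P))
    let t := y ≫ (Spec (CommRingCat.of P)).fromSpecResidueField η
    letI : Algebra P K := (Spec.preimage t).hom.toAlgebra
    have ht : Spec.map (CommRingCat.ofHom (algebraMap P K)) = t := Spec.map_preimage t
    have hinj : Function.Injective (algebraMap P K) := by
      refine (injective_iff_map_eq_zero _).2 fun p hp => ?_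
      have h1 : t (closedPoint K) = η := by
        rw [Scheme.Hom.comp_apply]
        exact Scheme.fromSpecResidueField_apply ..
      have h2 : p ∈ (t (closedPoint K)).asIdeal := by
        rw [← ht]
        show algebraMap P K p ∈ (closedPoint K).asIdeal
        rw [hp]
        exact zero_mem _
      rw [h1, show η = (⊥ : PrimeSpectrum P) from genericPoint_eq_bot_of_affine _] at h2
      exact h2
    refine (isReduced_iff_of_isPullback (P := P) (C := C) (κ := K) (fst := fst ≫ g.fiberι η) (snd := snd) ?_).2
      (hgen K hinj)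
    rw [ht]
    exact h.paste_horiz (IsPullback.of_hasPullback g _)
  obtain ⟨V, hV, hVg⟩ := L20.GenGeomRed.exists_geomReduced_restrict g hη
  obtain ⟨v, hv⟩ := hV
  obtain ⟨_, ⟨r, rfl⟩, hvr, hrV⟩ :=
    PrimeSpectrum.isTopologicalBasis_basic_opens.exists_subset_of_mem_open hv V.2
  refine ⟨r, fun h0 => ?_, fun κ _ _ hκ => ?_⟩
  · subst h0
    simp at hvr
  · let t := Spec.map (CommRingCat.ofHom (algebraMap P κ))
    have htV : Set.range t ⊆ Set.range V.ι := by
      rintro _ ⟨z, rfl⟩
      rw [Scheme.Opens.range_ι]
      refine hrV (fun hm => hκ ?_)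
      haveI := z.isPrime
      have : algebraMap P κ r ∈ z.asIdeal := hm
      rwa [Subsingleton.elim z (closedPoint κ), show (closedPoint κ).asIdeal = maximalIdeal κ from rfl,
        IsLocalRing.maximalIdeal_eq_bot, Ideal.mem_bot] at this
    let t' := IsOpenImmersion.lift V.ι t htV
    have ht' : t' ≫ V.ι = t := IsOpenImmersion.lift_fac _ _ _
    haveI hZ : AlgebraicGeometry.IsReduced (pullback (g ∣_ V) t') :=
      hVg.geometrically_isReduced t' _ _ (IsPullback.of_hasPullback (g ∣_ V) t')
    refine (isReduced_iff_of_isPullback (fst := pullback.fst (g ∣_ V) t' ≫ (g ⁻¹ᵁ V).ι)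
      (snd := pullback.snd (g ∣_ V) t') ?_).1 hZ
    have hsq := IsPullback.paste_horiz (IsPullback.of_hasPullback (g ∣_ V) t') (isPullback_morphismRestrict g V).flip
    rw [show Spec.map (CommRingCat.ofHom (algebraMap P κ)) = t' ≫ V.ι from ht'.symm]
    exact hsq

/-- Base change to the locus where a flat localisation becomes invertible is flat. -/
theorem flat_away_tensor (P C P' : Type u) [CommRing P] [CommRing C] [Algebra P C] [CommRing P'] [Algebra P P']
    (r : P) (hr : IsUnit (algebraMap P P' r))
    (h : Module.Flat P (LocalizedModule (Submonoid.powers (algebraMap P C r)) C)) : Module.Flat P' (P' ⊗[P] C) := by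
  let L := Localization.Away (algebraMap P C r)
  haveI : Module.Flat P L := h
  have hu : IsUnit ((Algebra.TensorProduct.includeRight : C →ₐ[P] P' ⊗[P] C).toRingHom (algebraMap P C r)) := by
    show IsUnit ((Algebra.TensorProduct.includeRight : C →ₐ[P] P' ⊗[P] C) (algebraMap P C r))
    rw [AlgHom.commutes, IsScalarTower.algebraMap_apply P P' (P' ⊗[P] C)]
    exact hr.map _
  let back : L →+* P' ⊗[P] C := IsLocalization.Away.lift (algebraMap P C r) hu
  let backA : L →ₐ[P] P' ⊗[P] C :=
    { back with
      commutes' := fun p => by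
        show back (algebraMap P L p) = _
        rw [IsScalarTower.algebraMap_apply P C L, IsLocalization.Away.lift_eq]
        exact (Algebra.TensorProduct.includeRight : C →ₐ[P] P' ⊗[P] C).commutes p }
  let f : P' ⊗[P] C →ₐ[P'] P' ⊗[P] L := Algebra.TensorProduct.map (AlgHom.id P' P') (IsScalarTower.toAlgHom P C L)
  let g : P' ⊗[P] L →ₐ[P'] P' ⊗[P] C :=
    Algebra.TensorProduct.lift (Algebra.ofId P' (P' ⊗[P] C)) backA fun _ _ => Commute.all _ _
  have hgf : ∀ z, g (f z) = z := by
    intro z
    induction z using TensorProduct.induction_on with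
    | zero => simp
    | add x y hx hy => rw [map_add, map_add, hx, hy]
    | tmul a c =>
      simp only [f, g, Algebra.TensorProduct.map_tmul, Algebra.TensorProduct.lift_tmul, AlgHom.coe_id, id_eq]
      show algebraMap P' (P' ⊗[P] C) a * back (algebraMap C L c) = a ⊗ₜ c
      rw [IsLocalization.Away.lift_eq]
      show (a ⊗ₜ (1 : C)) * ((1 : P') ⊗ₜ c) = _
      rw [Algebra.TensorProduct.tmul_mul_tmul, mul_one, one_mul]
  exact Module.Flat.of_retract f.toLinearMap g.toLinearMap (LinearMap.ext hgf)

/-- An algebra of finite presentation over a reduced ring is flat near a minimal prime. -/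
theorem exists_flat_away_minimal {R S : Type u} [CommRing R] [IsReduced R] [CommRing S] [Algebra R S]
    [Algebra.FinitePresentation R S] (p : Ideal R) [p.IsPrime]
    (hmin : ∀ q : Ideal R, q.IsPrime → q ≤ p → q = p) :
    ∃ r ∉ p, Module.Flat R (LocalizedModule (Submonoid.powers (algebraMap R S r)) S) := by
  have hfield : IsField (Localization.AtPrime p) := by
    haveI : Ring.KrullDimLE 0 (Localization.AtPrime p) := by
      refine Ring.KrullDimLE.mk₀ fun I hI => ?_
      have hq : (I.comap (algebraMap R (Localization.AtPrime p))) = p := by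
        refine hmin _ inferInstance fun x hx => ?_
        by_contra hxp
        exact hI.ne_top (I.eq_top_of_isUnit_mem hx
          (IsLocalization.map_units (Localization.AtPrime p) ⟨x, show x ∈ p.primeCompl from hxp⟩))
      have hI' : I = IsLocalRing.maximalIdeal (Localization.AtPrime p) := by
        rw [← IsLocalization.map_under p.primeCompl (Localization.AtPrime p) I, show I.under R = p from hq,
          Localization.AtPrime.map_eq_maximalIdeal]
      rw [hI']
      infer_instance
    exact Ring.KrullDimLE.isField_of_isReduced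
  letI := hfield.toField
  let T := Algebra.algebraMapSubmonoid S p.primeCompl
  haveI : Module.Flat R (LocalizedModule T S) := by
    haveI : IsScalarTower R (Localization.AtPrime p) (Localization T) :=
      IsScalarTower.of_algebraMap_eq fun x => by
        rw [IsScalarTower.algebraMap_apply R S (Localization T), RingHom.algebraMap_toAlgebra]
        exact (IsLocalization.map_eq _ x).symm
    haveI : Module.Flat R (Localization T) := Module.Flat.trans R (Localization.AtPrime p) (Localization T)
    haveI : IsLocalizedModule T (Algebra.linearMap S (Localization T)) :=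
      (isLocalizedModule_iff_isLocalization' _ _).2 inferInstance
    exact Module.Flat.of_linearEquiv
      ((IsLocalizedModule.iso T (Algebra.linearMap S (Localization T))).restrictScalars R)
  obtain ⟨g, hg, hflat⟩ := Groth.L20.exists_flat_away (R := R) (S := S) (M := S) T
  obtain ⟨r, hr, rfl⟩ := hg
  exact ⟨r, hr, hflat⟩

variable (A B : Type u) [CommRing A] [IsNoetherianRing A] [CommRing B] [Algebra A B] [Algebra.FiniteType A B]

/-- Over a dense open of an irreducible affine base, strictly local maps are universally submersive with connected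
geometric fibres. -/
theorem exists_good [(nilradical A).IsPrime] : ∃ f : A, f ∉ nilradical A ∧
    ∀ (RS RX : Type u) [CommRing RS] [HenselianLocalRing RS] [IsSepClosed (ResidueField RS)] [CommRing RX]
      [HenselianLocalRing RX] [IsSepClosed (ResidueField RX)] [Algebra RS RX] [IsLocalHom (algebraMap RS RX)]
      [Algebra A RS] [Algebra (RS ⊗[A] B) RX] [IsScalarTower RS (RS ⊗[A] B) RX]
      [Algebra.WeaklyEtale (RS ⊗[A] B) RX], IsUnit (algebraMap A RS f) →
      SGA1.UnivSubmersive (Spec.map (CommRingCat.ofHom (algebraMap RS RX))) ∧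
        ∀ (K : Type u) [Field K] [IsAlgClosed K] [Algebra RS K],
          ConnectedSpace (PrimeSpectrum (RX ⊗[RS] K)) := by
  obtain ⟨M⟩ := nonempty_model A B
  let C := (M.P ⊗[A] B) ⧸ nilradical (M.P ⊗[A] B)
  haveI : Algebra.FiniteType M.P C :=
    Algebra.FiniteType.of_surjective (Ideal.Quotient.mkₐ M.P _) Ideal.Quotient.mk_surjective
  haveI : Algebra.FinitePresentation M.P C := Algebra.FinitePresentation.of_finiteType.mp ‹_›
  obtain ⟨r₁, hr₁, hflat⟩ := exists_flat_away_minimal (S := C) (⊥ : Ideal M.P)
    (fun q _ hq => le_bot_iff.1 hq)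
  obtain ⟨r₂, hr₂, hred⟩ := exists_reduced_away M.P C M.hgen
  obtain ⟨n, f, hf⟩ := M.hP (r₁ * r₂)
  have hfne : algebraMap A M.P f ≠ 0 := by
    rw [hf]
    exact pow_ne_zero _ (mul_ne_zero (fun h => hr₁ (Ideal.mem_bot.2 h)) hr₂)
  let P' := Localization.Away (algebraMap A M.P f)
  have hu : IsUnit (algebraMap M.P P' r₁) ∧ IsUnit (algebraMap M.P P' r₂) := by
    have h := IsLocalization.Away.algebraMap_isUnit (S := P') (algebraMap A M.P f)
    rw [congrArg (algebraMap M.P P') hf, map_pow, map_mul, isUnit_pow_iff (pow_pos M.hq n).ne', IsUnit.mul_iff] at h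
    exact h
  haveI : IsNoetherianRing P' := IsLocalization.isNoetherianRing (Submonoid.powers (algebraMap A M.P f)) P' inferInstance
  haveI : Module.Flat P' (P' ⊗[M.P] C) := flat_away_tensor M.P C P' r₁ hu.1 hflat
  haveI : IsNoetherianRing (P' ⊗[M.P] C) := Algebra.FiniteType.isNoetherianRing P' _
  refine ⟨f, fun h => hfne (by rw [← RingHom.mem_ker, M.hker]; exact h), ?_⟩
  intro RS RX _ _ _ _ _ _ _ _ _ _ _ _ hfu
  refine submersive_connected_of_model A RS RX B M.P P' f hfu M.q M.hq M.hadd M.hP M.hext fun κ _ _ => ?_
  letI : Algebra M.P κ := ((algebraMap P' κ).comp (algebraMap M.P P')).toAlgebra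
  haveI : IsScalarTower M.P P' κ := IsScalarTower.of_algebraMap_eq' rfl
  haveI := hred κ (hu.2.map (algebraMap P' κ)).ne_zero
  let e : κ ⊗[P'] (P' ⊗[M.P] C) ≃ₐ[κ] κ ⊗[M.P] C := Algebra.TensorProduct.cancelBaseChange M.P P' κ κ C
  haveI : _root_.IsReduced (κ ⊗[M.P] C) :=
    isReduced_of_injective (Algebra.TensorProduct.comm M.P κ C).toAlgHom
      (Algebra.TensorProduct.comm M.P κ C).injective
  haveI : _root_.IsReduced (κ ⊗[P'] (P' ⊗[M.P] C)) := isReduced_of_injective e.toAlgHom e.injective
  exact isReduced_of_injective (Algebra.TensorProduct.comm P' (P' ⊗[M.P] C) κ).toAlgHom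
    (Algebra.TensorProduct.comm P' (P' ⊗[M.P] C) κ).injective

end Groth.L23.GenConn
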